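import Cfsg.Agent.H226.R2.Base
import Cfsg.Agent.H678.Constit
import Cfsg.Agent.OddOrderCharacters.Clifford
import Cfsg.Agent.Characters.Brauer
import Cfsg.Agent.Blocks.Basic

/-!
# S4829, `Row2`, `q` even : the row from an induced character (helper655)

* `row2_of_ind` : `P ≤ S` of odd index, `Φ` a nontrivial irreducible character of `P` of odd degree, all odd degree
  constituents of `Ind_P^S Φ` rational, `Ind_P^S Φ` fixed by all automorphisms of `2`-power order: `Row2 S`.
-/

set_option autoImplicit false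

namespace Cfsg.Agent.H655.R2

open Cfsg Cfsg.Agent.Characters.Core Cfsg.Agent.Characters Cfsg.Agent.H226.R2 Cfsg.Agent.H770.CY

universe u

/-- the stabiliser of a function fixed by all automorphisms of `2`-power order has odd index -/
theorem odd_index_stab {S : Type u} [Group S] [Finite S] {ψ : S → ℂ}
    (hinv : ∀ α : MulAut S, (∃ k : ℕ, α ^ 2 ^ k = 1) → ∀ s, ψ (α s) = ψ s) : Odd (stab ψ).index := by
  have := Fact.mk Nat.prime_two
  obtain ⟨P⟩ : Nonempty (Sylow 2 (MulAut S)) := inferInstance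
  have h1 : (P : Subgroup (MulAut S)) ≤ stab ψ := by
    intro α hα
    obtain ⟨k, hk⟩ := P.2 ⟨α, hα⟩
    exact hinv α ⟨k, congrArg Subtype.val hk⟩
  have h2 : (stab ψ).index ∣ (P : Subgroup (MulAut S)).index := Subgroup.index_dvd_of_le h1
  have h3 : ¬ 2 ∣ (P : Subgroup (MulAut S)).index := P.not_dvd_index
  rw [← Nat.not_even_iff_odd, even_iff_two_dvd]
  exact fun h4 => h3 (h4.trans h2)

/-- **the row from an induced character** -/
theorem row2_of_ind {S : Type u} [Group S] [Finite S] (P : Subgroup S) (hP : ¬ 2 ∣ P.index) {Φ : P → ℂ}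
    (hΦ : IsIrrCharacter P Φ) (hΦ1 : Φ ≠ fun _ => 1) (hodd : ¬ 2 ∣ charDegree Φ)
    (hrat : ∀ [Fintype S] {θ : S → ℂ}, IsIrrCharacter S θ → ¬ 2 ∣ charDegree θ → classInner (indFun P Φ) θ ≠ 0 →
      ∀ k : ℕ, k.Coprime (Nat.card S) → ∀ s : S, θ (s ^ k) = θ s)
    (hinv : ∀ [Fintype S] (α : MulAut S), (∃ k : ℕ, α ^ 2 ^ k = 1) → ∀ s, indFun P Φ (α s) = indFun P Φ s) : Row2 S := by
  classical
  let _ : Fintype S := Fintype.ofFinite S
  let _ : Fintype P := Fintype.ofFinite P
  obtain ⟨d, hd0, hd⟩ := isIrr_apply_one hΦ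
  have hdd : charDegree Φ = d := Cfsg.Agent.Blocks.Basic.charDegree_of_eq hd
  have hch : IsCharacter S (indFun P Φ) := Brauer.isCharacter_indFun P (isIrr_isCharacter hΦ)
  have hdodd : Odd d := by
    rw [← Nat.not_even_iff_odd, even_iff_two_dvd, ← hdd]
    exact hodd
  have hPodd : Odd P.index := by
    rw [← Nat.not_even_iff_odd, even_iff_two_dvd]
    exact hP
  have h1 : classInner (indFun P Φ) 1 = 0 := by
    have h2 := Cfsg.Agent.OddOrderCharacters.Clifford.classInner_indFun P Φ (1 : S → ℂ) (fun _ _ => rfl)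
    rw [h2]
    have h3 : IsIrrCharacter P (fun _ : P => (1 : ℂ)) := Characters.Core.isIrr_one
    exact classInner_irr_ne hΦ h3 hΦ1
  refine row2_of_all_rat (ψ := indFun P Φ) (Brauer.isGeneralizedCharacter_of_isCharacter hch) h1 ⟨((P.index * d : ℕ) : ℤ), ?_, ?_⟩ ?_
    (odd_index_stab fun α hα => hinv α hα)
  · exact_mod_cast hPodd.mul hdodd
  · rw [Cfsg.Agent.H678.Constit.indFun_one, hd]
    push_cast
    ring
  · intro χ hχ hne g
    refine (GaloisBasic.exists_rat_iff (isIrr_isCharacter χ.2) g).2 fun m hm => ?_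
    refine hrat χ.2 ?_ hne m hm g
    obtain ⟨e, he, he1⟩ := hχ
    rw [Cfsg.Agent.Blocks.Basic.charDegree_of_eq he1, ← even_iff_two_dvd, Nat.not_even_iff_odd]
    exact he

end Cfsg.Agent.H655.R2
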