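import Cfsg.Agent.H655.R2.Main
import Cfsg.Agent.H992.R2.Restr
import Cfsg.Agent.H673.R2.Eta

/-!
# S4829, `Row2`, `q` even : the general theorem (helper655)

* `eta` : `Eta K` for every finite field of characteristic two;
* `row2_two` : the row from an adjoint frame in characteristic two, a parametrised node `i` and the combinatorics of the
  diagram (`i` is fixed by every permutation of `2`-power order of the diagram which preserves the bonds and the orders
  of the root groups).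
-/

set_option autoImplicit false
set_option linter.unusedSectionVars false

namespace Cfsg.Agent.H655.R2

open Cfsg Cfsg.Agent.H148.GG Cfsg.Agent.H743.GG Cfsg.Agent.H40.OC Cfsg.Agent.H641.Gow Cfsg.Agent.H53.HC
open Cfsg.Agent.Characters Cfsg.Agent.H770.CY

open CoxeterSystem Cfsg.Agent.ChevalleyStructure.CoxeterGeom Cfsg.Agent.Tits.Roots Cfsg.Agent.Tits.Core
  Cfsg.Agent.Nodes.Reps Cfsg.Agent.Nodes.BNOf Cfsg.Agent.Nodes.Bruhat Cfsg.Agent.Nodes.LeviDec
  Cfsg.Agent.Nodes.StabComb Cfsg.Agent.Nodes.OppDec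

local notation "SL2 " F => Matrix.SpecialLinearGroup (Fin 2) F

/-- the character of `SL₂(K)` exists -/
theorem eta (K : Type*) [Field K] [Finite K] [CharP K 2] : Eta K := by
  intro _
  exact H673.R2.exists_eta K

universe u

variable {I W : Type*} {Y : Type u} [Fintype I] [DecidableEq I] [Group W] [Group Y] {M : CoxeterMatrix I}
  {cs : CoxeterSystem M W} {A : I → I → ℤ} {h : IsCartan M A} {T : Subgroup Y} {n : I → Y}
  {X : (I → ℤ) → Subgroup Y} {F : I → Type*} [∀ i, Field (F i)]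

/-- the condition on the diagram -/
def FixNode (M : CoxeterMatrix I) (c : I → ℕ) (i : I) : Prop :=
  ∀ σ : Equiv.Perm I, (∀ j k, (σ j ≠ σ k ∧ M (σ j) (σ k) ≠ 2) ↔ (j ≠ k ∧ M j k ≠ 2)) →
    (∀ j k, M (σ j) (σ k) = M j k) → (∀ j, c (σ j) = c j) → (∃ k, σ ^ 2 ^ k = 1) → σ i = i

/-- **the automorphisms of `2`-power order fix the class of `P_i ∩ S`** -/
theorem fix_of_fixNode [Finite W] [Finite Y] (R : RGD cs h 2 T n X) (hG : GG cs h T X = ⊤)
    {S : Subgroup Y} [S.Normal] [IsSimpleGroup S] (hUS : UU cs h X ≤ S) {i : I}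
    (hσ : FixNode M (fun j => Nat.card (X (sr j))) i) (b : MulAut S) (hb : ∃ k : ℕ, b ^ 2 ^ k = 1) :
    ∃ s : S, ∀ x : S, ((x : Y) ∈ PJ cs h T X {i} ↔ ((s * b x * s⁻¹ : S) : Y) ∈ PJ cs h T X {i}) := by
  have : Fact (Nat.Prime 2) := ⟨Nat.prime_two⟩
  have : Nonempty I := ⟨i⟩
  obtain ⟨n', -, RS, hGS, hBS, hPS⟩ := H992.R2.rgd_restr R hG hUS
  obtain ⟨k, hk⟩ := hb
  obtain ⟨s, hs⟩ := H40.R2.exists_conj_perm' RS hGS (H76.OC.isPGroup_zpowers (p := 2) hk)
  obtain ⟨β, hβ, -, σ, h1, h2, h3, h4, h5⟩ := hs b (Subgroup.mem_zpowers b)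
  have hX : ∀ j : I, Nat.card ↥((X (sr j)).subgroupOf S) = Nat.card (X (sr j)) := fun j =>
    Nat.card_congr (Subgroup.subgroupOfEquivOfLe (H151.OC.X_le_of_U_le R hUS (isRoot_sr cs h j))).toEquiv
  have hi : σ i = i := hσ σ h1 h2 (fun j => by
    have h6 := h3 j
    rw [hX, hX] at h6
    exact h6) h4
  have h6 := h5 {i}
  rw [Set.image_singleton, hi, hPS] at h6
  refine ⟨s * b s⁻¹, fun x => ?_⟩
  have : Fintype S := Fintype.ofFinite S
  have h7 := H76.OC.mem_iff_of_map h6 x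
  rw [Subgroup.mem_subgroupOf, Subgroup.mem_subgroupOf] at h7
  rw [← h7, hβ]
  have h8 : (MulAut.conj s * b * (MulAut.conj s)⁻¹) x = s * b s⁻¹ * b x * (s * b s⁻¹)⁻¹ := by
    simp only [MulAut.mul_apply, MulAut.conj_apply, MulAut.conj_inv_apply, map_mul, map_inv, mul_inv_rev, inv_inv,
      mul_assoc, inv_mul_cancel_left]
  rw [h8]

/-- **`Row2` for the groups of Lie type in characteristic two** -/
theorem row2_two [Finite W] [Finite Y] [∀ i, Finite (F i)] (R : RGD cs h 2 T n X) (D : Adj T X F)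
    (hG : GG cs h T X = ⊤) (hT : ∀ t : T, (∀ i, D.a i t = 1) → t = 1) {φ : Y → Y} (hφ : H148.GG.Anti R φ)
    (hN : ∀ f : ↥(UU cs h X) →* ℂˣ, ∀ u, (∀ i, co R D i u = 1) → f u = 1)
    {S : Subgroup Y} [S.Normal] [IsSimpleGroup S] (hUS : UU cs h X ≤ S)
    {i : I} {K : Type*} [Field K] [Finite K] [CharP K 2] {ψ : (Matrix.SpecialLinearGroup (Fin 2) K) →* Y}
    (hNd : H619.Gow.Nd cs h T n X i ψ)
    (hσ : ∀ σ : Equiv.Perm I, (∀ j k, (σ j ≠ σ k ∧ M (σ j) (σ k) ≠ 2) ↔ (j ≠ k ∧ M j k ≠ 2)) →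
      (∀ j k, M (σ j) (σ k) = M j k) →
      (∀ j, Nat.card (X (sr (σ j))) = Nat.card (X (sr j))) → (∃ k, σ ^ 2 ^ k = 1) → σ i = i) :
    Row2 S := by
  have : Fact (Nat.Prime 2) := ⟨Nat.prime_two⟩
  have hodd : Odd (Nat.card T) := by
    have := R.tcop
    exact Nat.coprime_two_right.1 this
  exact row2_fix R D hG hT (multOne_odd R D hφ hodd) hN hUS hNd (eta K) (fix_of_fixNode R hG hUS hσ)

end Cfsg.Agent.H655.R2
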