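import Cfsg.Agent.H655.R2.One
import Cfsg.Agent.H40.R2.Perm
import Cfsg.Agent.H288.BnRgd

/-!
# S4829, `Row2`, `q` even : the rows from a parametrised node (helper655)

* `Eta K` : the nontrivial rational irreducible character of odd degree of `SL₂(K)`;
* `row2_fix` : `P_i ∩ S` is mapped to a conjugate by every automorphism of `2`-power order of `S`: `Row2 S`.
-/

set_option autoImplicit false
set_option linter.unusedSectionVars false

namespace Cfsg.Agent.H655.R2

open scoped Pointwise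
open Cfsg Cfsg.Agent.H148.GG Cfsg.Agent.H743.GG Cfsg.Agent.H40.OC Cfsg.Agent.H641.Gow Cfsg.Agent.H53.HC
open Cfsg.Agent.Characters Cfsg.Agent.H770.CY

open CoxeterSystem Cfsg.Agent.ChevalleyStructure.CoxeterGeom Cfsg.Agent.Tits.Roots Cfsg.Agent.Tits.Core
  Cfsg.Agent.Nodes.Reps Cfsg.Agent.Nodes.BNOf Cfsg.Agent.Nodes.Bruhat Cfsg.Agent.Nodes.LeviDec
  Cfsg.Agent.Nodes.StabComb Cfsg.Agent.Nodes.OppDec
open Cfsg.Agent.ChevalleyStructure.SL2Hom (up lo mem_closure_SL2)

local notation "SL2 " F => Matrix.SpecialLinearGroup (Fin 2) F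

/-- the nontrivial rational irreducible character of odd degree of `SL₂(K)` -/
def Eta (K : Type*) [Field K] : Prop :=
  ∀ [Fintype (SL2 K)], ∃ η : (SL2 K) → ℂ,
    IsIrrCharacter _ η ∧ η ≠ (fun _ => 1) ∧ ¬ 2 ∣ charDegree η ∧ (∀ g g' : SL2 K, orderOf g = orderOf g' → η g = η g') ∧
    ((∀ [Fintype K], ∑ a : K, η (up a) = 0) ∨
      ∃ (Bo : Subgroup (SL2 K)) (lam : Bo →* ℂˣ), (∀ g : SL2 K, g ∈ Bo ↔ g.1 1 0 = 0) ∧
        (∀ (a : K) (ha : up a ∈ Bo), lam ⟨_, ha⟩ = 1) ∧ η = indFun Bo (fun b => (lam b : ℂ)))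

/-- an automorphism fixing `P` maps `U` to a conjugate in `P` -/
theorem exists_adjust {G : Type*} [Group G] [Finite G] {P U : Subgroup G} (hUP : U ≤ P) (hU : IsPGroup 2 U)
    (hidx : ¬ 2 ∣ U.relIndex P) {β : MulAut G} (hβ : ∀ x, β x ∈ P ↔ x ∈ P) :
    ∃ g ∈ P, ∀ x, g * β x * g⁻¹ ∈ U ↔ x ∈ U := by
  have : Fact (Nat.Prime 2) := ⟨Nat.prime_two⟩
  have hU' : IsPGroup 2 ↥(U.subgroupOf P) := hU.comap_of_injective P.subtype P.subtype_injective
  let Q : Sylow 2 P := hU'.toSylow hidx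
  have hQ : (Q : Subgroup P) = U.subgroupOf P := rfl
  have hβs : ∀ x, β.symm x ∈ P ↔ x ∈ P := fun x => by
    rw [← hβ, MulEquiv.apply_symm_apply]
  let βP : MulAut P :=
    { toFun := fun x => ⟨β x, (hβ _).2 x.2⟩
      invFun := fun x => ⟨β.symm x, (hβs _).2 x.2⟩
      left_inv := fun x => Subtype.ext (β.symm_apply_apply _)
      right_inv := fun x => Subtype.ext (β.apply_symm_apply _)
      map_mul' := fun x y => Subtype.ext (map_mul β _ _) }
  obtain ⟨g, hg⟩ := MulAction.exists_smul_eq P (βP • Q) Q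
  refine ⟨g, g.2, fun x => ?_⟩
  have key : ∀ y : P, (g * βP y * g⁻¹ ∈ (Q : Subgroup P)) ↔ y ∈ (Q : Subgroup P) := by
    intro y
    have h1 : ((g • (βP • Q) : Sylow 2 P) : Subgroup P) = (Q : Subgroup P) := congrArg _ hg
    constructor
    · intro hy
      rw [← h1] at hy
      obtain ⟨z, hz, hzy⟩ := hy
      obtain ⟨w, hw, hwz⟩ := hz
      have h2 : g * βP w * g⁻¹ = g * βP y * g⁻¹ := by
        rw [← hzy, ← hwz]
        rfl
      have h3 : βP w = βP y := mul_left_cancel (mul_right_cancel h2)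
      rw [← βP.injective h3]
      exact hw
    · intro hy
      rw [← h1]
      exact ⟨βP y, ⟨y, hy, rfl⟩, rfl⟩
  constructor
  · intro hx
    have hxP : x ∈ P := by
      have h2 : (g : G) * β x * (g : G)⁻¹ ∈ P := hUP hx
      rw [Subgroup.mul_mem_cancel_right _ (inv_mem g.2), Subgroup.mul_mem_cancel_left _ g.2, hβ] at h2
      exact h2
    have h3 := (key ⟨x, hxP⟩).1 (Subgroup.mem_subgroupOf.2 hx)
    exact Subgroup.mem_subgroupOf.1 h3
  · intro hx
    exact Subgroup.mem_subgroupOf.1 ((key ⟨x, hUP hx⟩).2 (Subgroup.mem_subgroupOf.2 hx))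

universe u

variable {I W : Type*} {Y : Type u} [Fintype I] [DecidableEq I] [Group W] [Group Y] {M : CoxeterMatrix I}
  {cs : CoxeterSystem M W} {A : I → I → ℤ} {h : IsCartan M A} {T : Subgroup Y} {n : I → Y}
  {X : (I → ℤ) → Subgroup Y} {F : I → Type*} [∀ i, Field (F i)]

theorem comm_T (D : Adj T X F) (hT : ∀ t : T, (∀ i, D.a i t = 1) → t = 1) : ∀ x ∈ T, ∀ y ∈ T, x * y = y * x := by
  intro x hx y hy
  have h1 : (⟨x, hx⟩ : T) * ⟨y, hy⟩ * (⟨y, hy⟩ * ⟨x, hx⟩)⁻¹ = 1 := hT _ fun i => by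
    rw [map_mul, map_mul, map_inv, map_mul, mul_comm (D.a i ⟨x, hx⟩), mul_inv_cancel]
  exact congrArg Subtype.val (mul_inv_eq_one.1 h1)

theorem phi_mem_S [Finite W] {i : I} {K : Type*} [Field K] {φ : (SL2 K) →* Y} (N : H619.Gow.Nd cs h T n X i φ)
    (R : RGD cs h 2 T n X) {S : Subgroup Y} [S.Normal] (hUS : UU cs h X ≤ S) (s : SL2 K) : φ s ∈ S := by
  have h1 : φ.range ≤ S := by
    rw [N.range_eq R]
    exact sup_le (H151.OC.X_le_of_U_le R hUS (isRoot_sr cs h i)) (H151.OC.X_le_of_U_le R hUS (isRoot_sr cs h i).neg)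
  exact h1 ⟨s, rfl⟩

/-- **the row, the automorphisms of `2`-power order fixing the class of `P_i ∩ S`** -/
theorem row2_fix [Finite W] [Finite Y] [∀ i, Finite (F i)] (R : RGD cs h 2 T n X) (D : Adj T X F)
    (hG : GG cs h T X = ⊤) (hT : ∀ t : T, (∀ i, D.a i t = 1) → t = 1) (hm : MultOne cs h T X)
    (hN : ∀ f : ↥(UU cs h X) →* ℂˣ, ∀ u, (∀ i, co R D i u = 1) → f u = 1)
    {S : Subgroup Y} [S.Normal] (hUS : UU cs h X ≤ S)
    {i : I} {K : Type*} [Field K] [Finite K] [CharP K 2] {φ : (SL2 K) →* Y} (N : H619.Gow.Nd cs h T n X i φ)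
    (hE : Eta K)
    (hP : ∀ b : MulAut S, (∃ k : ℕ, b ^ 2 ^ k = 1) → ∃ s : S, ∀ x : S,
      ((x : Y) ∈ PJ cs h T X {i} ↔ ((s * b x * s⁻¹ : S) : Y) ∈ PJ cs h T X {i})) : Row2 S := by
  classical
  have : Fact (Nat.Prime 2) := ⟨Nat.prime_two⟩
  let _ : Fintype K := Fintype.ofFinite K
  let _ : Fintype (SL2 K) := Fintype.ofFinite _
  have hTc := comm_T D hT
  obtain ⟨π, h1, h2⟩ := H619.Gow.exists_proj N R hTc
  obtain ⟨η, e1, e2, e3, e4, e5⟩ := hE
  have hφS := phi_mem_S N R hUS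
  refine row2_core' R D hG hT hm hN hUS π ?_ e1 e2 e3 ?_ ?_ ?_
  · intro s
    exact ⟨⟨⟨φ s, hφS s⟩, Subgroup.mem_subgroupOf.2 (H619.Gow.phi_mem_PJ N R s)⟩, h1 s _⟩
  · intro k hk x
    exact e4 _ _ (hk.symm.coprime_dvd_left (orderOf_dvd_natCard x)).orderOf_pow
  · intro _
    rcases e5 with e5 | ⟨Bo, lam, e6, e7, e8⟩
    · exact oneOdd_cusp R D N h1 h2 hG hT hm hN e1 e5
    · exact oneOdd_gen R D N hTc h1 h2 hG hT hm hN Bo lam e6 e7 e8
  · intro α hα
    obtain ⟨s, hs⟩ := hP α hα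
    -- adjust
    have hidx : ¬ 2 ∣ ((UU cs h X).subgroupOf S).relIndex ((PJ cs h T X {i}).subgroupOf S) := by
      intro h3
      have h4 : ¬ 2 ∣ ((UU cs h X).subgroupOf S).index := by
        have h5 := KFacts.RgdSyl.not_dvd_relIndex R
        rw [hG, Subgroup.relIndex_top_right] at h5
        intro h6
        have h7 : ((UU cs h X).subgroupOf S).index * S.index = (UU cs h X).index := Subgroup.relIndex_mul_index hUS
        exact h5 (h6.trans (Dvd.intro _ h7))
      apply h4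
      have h5 := Subgroup.relIndex_mul_index (H := (UU cs h X).subgroupOf S) (K := (PJ cs h T X {i}).subgroupOf S)
        (fun x hx => Subgroup.mem_subgroupOf.2 (B_le_PJ (RGD.U_le_B (T := T) (Subgroup.mem_subgroupOf.1 hx))))
      rw [← h5]
      exact h3.trans (Dvd.intro _ rfl)
    obtain ⟨g, hg, hgU⟩ := exists_adjust (G := S) (P := (PJ cs h T X {i}).subgroupOf S) (U := (UU cs h X).subgroupOf S)
      (β := MulAut.conj s * α) (fun x hx => Subgroup.mem_subgroupOf.2 (B_le_PJ (RGD.U_le_B (T := T) (Subgroup.mem_subgroupOf.1 hx))))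
      (R.isPGroup_Upos.comap_of_injective S.subtype S.subtype_injective) hidx (fun x => (hs x).symm)
    have hBm : ∀ x : S, (x : Y) ∈ RGD.B cs h T X ↔ ∀ u : S, (u ∈ (UU cs h X).subgroupOf S ↔
        x * u * x⁻¹ ∈ (UU cs h X).subgroupOf S) := by
      intro x
      rw [← H288.BnRgd.normalizer_U R hG, Subgroup.mem_normalizer_iff]
      constructor
      · intro hx u
        exact hx u
      · intro hx u
        constructor
        · intro hu
          exact (hx ⟨u, hUS hu⟩).1 hu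
        · intro hu
          have hu' : u ∈ S := by
            have h3 := (inferInstance : S.Normal).conj_mem _ (hUS hu) (x : Y)⁻¹
            have h4 : (x : Y)⁻¹ * ((x : Y) * u * (x : Y)⁻¹) * (x : Y)⁻¹⁻¹ = u := by group
            rwa [h4] at h3
          exact (hx ⟨u, hu'⟩).2 hu
    let β : MulAut S := MulAut.conj (g * s) * α
    have hβx : ∀ x, β x = g * (MulAut.conj s * α) x * g⁻¹ := by
      intro x
      show (g * s) * α x * (g * s)⁻¹ = g * (s * α x * s⁻¹) * g⁻¹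
      group
    have hβU : ∀ x, β x ∈ (UU cs h X).subgroupOf S ↔ x ∈ (UU cs h X).subgroupOf S := fun x => by
      rw [hβx]
      exact hgU x
    have hβP : ∀ x : S, (β x : Y) ∈ PJ cs h T X {i} ↔ (x : Y) ∈ PJ cs h T X {i} := by
      intro x
      have h3 : β x ∈ (PJ cs h T X {i}).subgroupOf S ↔ (MulAut.conj s * α) x ∈ (PJ cs h T X {i}).subgroupOf S := by
        rw [hβx, Subgroup.mul_mem_cancel_right _ (inv_mem hg), Subgroup.mul_mem_cancel_left _ hg]
      exact (Subgroup.mem_subgroupOf.symm.trans h3).trans (hs x).symm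
    have hβB : ∀ x : S, (β x : Y) ∈ RGD.B cs h T X ↔ (x : Y) ∈ RGD.B cs h T X := by
      intro x
      rw [hBm, hBm]
      constructor
      · intro h3 u
        have h4 := h3 (β u)
        rw [hβU, ← map_inv, ← map_mul, ← map_mul, hβU] at h4
        exact h4
      · intro h3 u
        obtain ⟨v, rfl⟩ := β.surjective u
        rw [hβU, ← map_inv, ← map_mul, ← map_mul, hβU]
        exact h3 v
    refine ⟨g * s, β, rfl, ?_, fun x hx hx' => e4 _ _ (orderOf_pi N R hTc h1 h2 hφS hβP hβB x hx hx')⟩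
    ext x
    constructor
    · rintro ⟨y, hy, rfl⟩
      exact Subgroup.mem_subgroupOf.2 ((hβP y).2 (Subgroup.mem_subgroupOf.1 hy))
    · intro hx
      obtain ⟨y, rfl⟩ := β.surjective x
      exact ⟨y, Subgroup.mem_subgroupOf.2 ((hβP y).1 (Subgroup.mem_subgroupOf.1 hx)), rfl⟩

end Cfsg.Agent.H655.R2
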