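import Cfsg.Agent.H151.OC.HThree

/-!
# S4829, `Row2`, `q` even : rationality of the odd degree constituents (helper655)

* `rat_of_cusp` : `(J, α)` cuspidal with `[α, ψ_J] ≠ 0`, `HC R J α` rational: the irreducible characters of odd degree
  of a normal subgroup `S ≥ U` occurring in `(HC R J α)|S` are rational (helper151's `uniq_deg` and `descent`).
-/

set_option autoImplicit false
set_option linter.unusedSectionVars false

namespace Cfsg.Agent.H655.R2

open Cfsg Cfsg.Agent.H148.GG Cfsg.Agent.H743.GG Cfsg.Agent.H40.OC Cfsg.Agent.H641.Gow Cfsg.Agent.H53.HC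
open Cfsg.Agent.Characters Cfsg.Agent.H151.OC

open CoxeterSystem Cfsg.Agent.ChevalleyStructure.CoxeterGeom Cfsg.Agent.Tits.Roots Cfsg.Agent.Tits.Core
  Cfsg.Agent.Nodes.Reps Cfsg.Agent.Nodes.BNOf Cfsg.Agent.Nodes.Bruhat Cfsg.Agent.Nodes.LeviDec
  Cfsg.Agent.Nodes.StabComb Cfsg.Agent.Nodes.OppDec

universe u

theorem exists_exponent {k n m : ℕ} (hn : n ≠ 0) (hm : m ≠ 0) (hk : Nat.Coprime k n) :
    ∃ k' : ℕ, k'.Coprime m ∧ k' ≡ k [MOD n] := by
  have : NeZero (n * m) := ⟨mul_ne_zero hn hm⟩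
  have : NeZero n := ⟨hn⟩
  obtain ⟨u, hu⟩ := ZMod.unitsMap_surjective (n := n) (m := n * m) (Dvd.intro _ rfl) (ZMod.unitOfCoprime k hk)
  refine ⟨(u : ZMod (n * m)).val, (ZMod.val_coe_unit_coprime u).coprime_dvd_right (Dvd.intro_left _ rfl), ?_⟩
  have h1 := congrArg (fun v : (ZMod n)ˣ => (v : ZMod n)) hu
  simp only [ZMod.unitsMap_val, ZMod.coe_unitOfCoprime] at h1
  rw [← ZMod.natCast_eq_natCast_iff, ← h1, ZMod.natCast_val]

variable {I W : Type*} {Y : Type u} [Fintype I] [DecidableEq I] [Group W] [Group Y] {M : CoxeterMatrix I}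
  {cs : CoxeterSystem M W} {A : I → I → ℤ} {h : IsCartan M A} {T : Subgroup Y} {n : I → Y}
  {X : (I → ℤ) → Subgroup Y} {F : I → Type*} [∀ i, Field (F i)]

/-- **the odd degree constituents on a normal subgroup are rational** -/
theorem rat_of_cusp [Finite W] [Fintype Y] [∀ i, Finite (F i)] (R : RGD cs h 2 T n X) (D : Adj T X F)
    (hG : GG cs h T X = ⊤) (hT : ∀ t : T, (∀ i, D.a i t = 1) → t = 1) (hm : MultOne cs h T X)
    (hN : ∀ f : ↥(UU cs h X) →* ℂˣ, ∀ u, (∀ i, co R D i u = 1) → f u = 1)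
    {ψ : ↥(UJ cs h X Set.univ) →* ℂˣ} (hψ : Nd cs h X Set.univ ψ) (J : Set I) [Fintype ↥(UJ cs h X J)]
    {α : ↥(LJ cs h T X J) → ℂ} (hα : IsIrrCharacter _ α) (hc : CuspL cs h T X J α)
    (hne : classInner (α ∘ Subgroup.inclusion (H148.GG.UJ_le_LJ (cs := cs) (h := h) (T := T) (X := X) (J := J)))
      (fun u : ↥(UJ cs h X J) => ((ψ.comp (Subgroup.inclusion H148.GG.UJ_le_U)) u : ℂ)) ≠ 0)
    (hrat : ∀ k : ℕ, k.Coprime (Nat.card Y) → ∀ g : Y, HC R J α (g ^ k) = HC R J α g)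
    (S : Subgroup Y) [S.Normal] [Fintype S] (hUS : UU cs h X ≤ S) {θ : S → ℂ} (hθ : IsIrrCharacter S θ)
    (hd : ¬ 2 ∣ charDegree θ) (hcon : classInner (fun s : S => HC R J α s) θ ≠ 0) (k : ℕ)
    (hk : k.Coprime (Nat.card S)) (s : S) : θ (s ^ k) = θ s := by
  classical
  have : Fact (Nat.Prime 2) := ⟨Nat.prime_two⟩
  have : Fintype ↥(UU cs h X) := Fintype.ofFinite _
  obtain ⟨ξ, h1, h2, h3⟩ := uniq_deg R D hG hT hm hN hψ J hα hc hne
  obtain ⟨la, hl⟩ := exists_lam R D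
  have hch : IsCharacter Y (HC R J α) := Cfsg.Agent.S0148.result _ _ (Core.isCharacter_comp _ (Core.isIrr_isCharacter hα))
  have hmean : classInner (fun u : UU cs h X => (ξ : Y → ℂ) u) (fU la) = 1 ∨
      classInner (fun u : UU cs h X => (ξ : Y → ℂ) u) (fU la) = -1 := by
    rw [← mG_eq_fU R D hl (Core.isIrr_isClassFunction ξ.2)]
    exact (H743.GG.count R D hG hT hm ξ).resolve_left fun h4 => h2 ((dvd_iff R D hG hT hm hN ξ).2 h4)
  have key := descent (S := S) (not_dvd_index R hG hUS) (Θ := HC R J α) hch h1 h3 hUS (f := fU la)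
    (fun θ hθ => fU_isInt la (Core.isCharacter_comp _ (Core.isIrr_isCharacter hθ))) hmean hθ hd hcon
  -- reduce to an exponent prime to `|Y|`
  obtain ⟨k', hk2, hkk⟩ := exists_exponent (m := 2 * Nat.card Y) Nat.card_pos.ne' (mul_ne_zero two_ne_zero Nat.card_pos.ne') hk
  have hk' : k'.Coprime (Nat.card Y) := hk2.coprime_dvd_right (Dvd.intro_left _ rfl)
  have hs : ∀ s : S, s ^ k' = s ^ k := fun s => pow_eq_pow_iff_modEq.2 (hkk.of_dvd (orderOf_dvd_natCard s))
  rw [← hs]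
  have hodd : k' ≡ 1 [MOD 2] := by
    have h4 : k'.Coprime 2 := hk2.coprime_dvd_right (Dvd.intro _ rfl)
    have h5 := Nat.coprime_two_right.1 h4
    rw [Nat.odd_iff] at h5
    exact h5
  exact key.2.2 k' (hk'.coprime_dvd_right (Subgroup.card_subgroup_dvd_card S))
    (fun s => hrat k' hk' s) (fun u => fU_pow R D hl hodd u) s

end Cfsg.Agent.H655.R2
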