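import Cfsg.Agent.H151.OC.Ss
import Cfsg.Agent.H655.R2.Rat
import Cfsg.Agent.H655.R2.Ind
import Cfsg.Agent.H76.OC.IndInv
import Cfsg.Agent.KFacts.RgdSyl

/-!
# S4829, `Row2`, `q` even : the core (helper655)

`Y` a group with adjoint root group datum in characteristic two, `S ≥ U` normal in `Y`, `π : P_J → H`, `η` a nontrivial
rational irreducible character of `H` of odd degree.

* `rat_of_uniq` : `Θ` a rational character of `Y` with exactly one constituent of odd degree (multiplicity one): the odd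
  degree constituents of `Θ|S` are rational;
* `row2_core` : if `Ind_{P_J}(η ∘ π)` has exactly one constituent of odd degree and is fixed by the automorphisms of
  `2`-power order of `S`, then `Row2 S`.
-/

set_option autoImplicit false
set_option linter.unusedSectionVars false

namespace Cfsg.Agent.H655.R2

open Cfsg Cfsg.Agent.H148.GG Cfsg.Agent.H743.GG Cfsg.Agent.H40.OC Cfsg.Agent.H641.Gow Cfsg.Agent.H53.HC
open Cfsg.Agent.Characters Cfsg.Agent.H151.OC Cfsg.Agent.H770.CY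

open CoxeterSystem Cfsg.Agent.ChevalleyStructure.CoxeterGeom Cfsg.Agent.Tits.Roots Cfsg.Agent.Tits.Core
  Cfsg.Agent.Nodes.Reps Cfsg.Agent.Nodes.BNOf Cfsg.Agent.Nodes.Bruhat Cfsg.Agent.Nodes.LeviDec
  Cfsg.Agent.Nodes.StabComb Cfsg.Agent.Nodes.OppDec

universe u

variable {I W : Type*} {Y : Type u} [Fintype I] [DecidableEq I] [Group W] [Group Y] {M : CoxeterMatrix I}
  {cs : CoxeterSystem M W} {A : I → I → ℤ} {h : IsCartan M A} {T : Subgroup Y} {n : I → Y}
  {X : (I → ℤ) → Subgroup Y} {F : I → Type*} [∀ i, Field (F i)]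

/-- exactly one constituent of odd degree, of multiplicity one -/
def OneOdd {Y : Type u} [Group Y] [Fintype Y] (Θ : Y → ℂ) : Prop :=
  ∃ ξ : IrrCharacter Y, classInner Θ (ξ : Y → ℂ) = 1 ∧ ¬ 2 ∣ charDegree (ξ : Y → ℂ) ∧
    ∀ χ : IrrCharacter Y, classInner Θ (χ : Y → ℂ) ≠ 0 → ¬ 2 ∣ charDegree (χ : Y → ℂ) → χ = ξ

/-- **the odd degree constituents on a normal subgroup are rational** -/
theorem rat_of_uniq [Finite W] [Fintype Y] [∀ i, Finite (F i)] (R : RGD cs h 2 T n X) (D : Adj T X F)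
    (hG : GG cs h T X = ⊤) (hT : ∀ t : T, (∀ i, D.a i t = 1) → t = 1) (hm : MultOne cs h T X)
    (hN : ∀ f : ↥(UU cs h X) →* ℂˣ, ∀ u, (∀ i, co R D i u = 1) → f u = 1)
    {Θ : Y → ℂ} (hΘ : IsCharacter Y Θ) (huq : OneOdd Θ)
    (hrat : ∀ k : ℕ, k.Coprime (Nat.card Y) → ∀ g : Y, Θ (g ^ k) = Θ g)
    (S : Subgroup Y) [S.Normal] [Fintype S] (hUS : UU cs h X ≤ S) {θ : S → ℂ} (hθ : IsIrrCharacter S θ)
    (hd : ¬ 2 ∣ charDegree θ) (hcon : classInner (fun s : S => Θ s) θ ≠ 0) (k : ℕ)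
    (hk : k.Coprime (Nat.card S)) (s : S) : θ (s ^ k) = θ s := by
  classical
  have : Fact (Nat.Prime 2) := ⟨Nat.prime_two⟩
  have : Fintype ↥(UU cs h X) := Fintype.ofFinite _
  obtain ⟨ξ, h1, h2, h3⟩ := huq
  obtain ⟨la, hl⟩ := exists_lam R D
  have hmean : classInner (fun u : UU cs h X => (ξ : Y → ℂ) u) (fU la) = 1 ∨
      classInner (fun u : UU cs h X => (ξ : Y → ℂ) u) (fU la) = -1 := by
    rw [← mG_eq_fU R D hl (Core.isIrr_isClassFunction ξ.2)]
    exact (H743.GG.count R D hG hT hm ξ).resolve_left fun h4 => h2 ((dvd_iff R D hG hT hm hN ξ).2 h4)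
  have key := descent (S := S) (not_dvd_index R hG hUS) (Θ := Θ) hΘ h1 h3 hUS (f := fU la)
    (fun θ hθ => fU_isInt la (Core.isCharacter_comp _ (Core.isIrr_isCharacter hθ))) hmean hθ hd hcon
  obtain ⟨k', hk2, hkk⟩ := exists_exponent (m := 2 * Nat.card Y) Nat.card_pos.ne'
    (mul_ne_zero two_ne_zero Nat.card_pos.ne') hk
  have hk' : k'.Coprime (Nat.card Y) := hk2.coprime_dvd_right (Dvd.intro_left _ rfl)
  have hs : ∀ s : S, s ^ k' = s ^ k := fun s => pow_eq_pow_iff_modEq.2 (hkk.of_dvd (orderOf_dvd_natCard s))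
  rw [← hs]
  have hodd : k' ≡ 1 [MOD 2] := by
    have h4 : k'.Coprime 2 := hk2.coprime_dvd_right (Dvd.intro _ rfl)
    have h5 := Nat.coprime_two_right.1 h4
    rw [Nat.odd_iff] at h5
    exact h5
  exact key.2.2 k' (hk'.coprime_dvd_right (Subgroup.card_subgroup_dvd_card S))
    (fun s => hrat k' hk' s) (fun u => fU_pow R D hl hodd u) s

theorem not_dvd_index_PJ [Finite W] [Finite Y] (R : RGD cs h 2 T n X) (hG : GG cs h T X = ⊤) (S : Subgroup Y)
    (hUS : UU cs h X ≤ S) (J : Set I) : ¬ 2 ∣ ((PJ cs h T X J).subgroupOf S).index := by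
  have : Fact (Nat.Prime 2) := ⟨Nat.prime_two⟩
  have h1 := KFacts.RgdSyl.not_dvd_relIndex R
  rw [hG, Subgroup.relIndex_top_right] at h1
  intro h2
  apply h1
  have h3 : (UU cs h X).subgroupOf S ≤ (PJ cs h T X J).subgroupOf S :=
    fun _ hx => Subgroup.mem_subgroupOf.2 (B_le_PJ (RGD.U_le_B (T := T) (Subgroup.mem_subgroupOf.1 hx)))
  have h4 : 2 ∣ ((UU cs h X).subgroupOf S).index := h2.trans (Subgroup.index_dvd_of_le h3)
  have h5 : ((UU cs h X).subgroupOf S).index * S.index = (UU cs h X).index := Subgroup.relIndex_mul_index hUS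
  exact h4.trans (Dvd.intro _ h5)

theorem sup_PJ [Finite W] (R : RGD cs h 2 T n X) (hG : GG cs h T X = ⊤) {S : Subgroup Y} [S.Normal]
    (hUS : UU cs h X ≤ S) (J : Set I) : S ⊔ PJ cs h T X J = ⊤ := by
  rw [eq_top_iff, ← sup_B R hG hUS]
  exact sup_le_sup_left B_le_PJ _

/-- the function `η ∘ π` on `P_J ∩ S` -/
def resP (S : Subgroup Y) {P : Subgroup Y} {H : Type*} [Group H] (π : ↥P →* H) : ↥(P.subgroupOf S) →* H :=
  π.comp
    { toFun := fun j => ⟨((j : S) : Y), Subgroup.mem_subgroupOf.1 j.2⟩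
      map_one' := rfl
      map_mul' := fun _ _ => rfl }

/-- **the core**, for `β = conj t * α` -/
theorem row2_core' [Finite W] [Finite Y] [∀ i, Finite (F i)] (R : RGD cs h 2 T n X) (D : Adj T X F)
    (hG : GG cs h T X = ⊤) (hT : ∀ t : T, (∀ i, D.a i t = 1) → t = 1) (hm : MultOne cs h T X)
    (hN : ∀ f : ↥(UU cs h X) →* ℂˣ, ∀ u, (∀ i, co R D i u = 1) → f u = 1)
    {S : Subgroup Y} [S.Normal] (hUS : UU cs h X ≤ S) {J : Set I} {H : Type*} [Group H] [Finite H]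
    (π : ↥(PJ cs h T X J) →* H) (hsurj : Function.Surjective (resP S π)) {η : H → ℂ}
    (hη : IsIrrCharacter H η) (hη1 : η ≠ fun _ => 1) (hηd : ¬ 2 ∣ charDegree η)
    (hηr : ∀ k : ℕ, k.Coprime (Nat.card H) → ∀ x, η (x ^ k) = η x)
    (huq : ∀ [Fintype Y], OneOdd (indFun (PJ cs h T X J) (η ∘ π)))
    (hinv : ∀ α : MulAut S, (∃ k : ℕ, α ^ 2 ^ k = 1) → ∃ (s : S) (β : MulAut S),
      β = MulAut.conj s * α ∧
      ((PJ cs h T X J).subgroupOf S).map β.toMonoidHom = (PJ cs h T X J).subgroupOf S ∧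
      ∀ (x : S) (hx : x ∈ (PJ cs h T X J).subgroupOf S) (hx' : β x ∈ (PJ cs h T X J).subgroupOf S),
        η (resP S π ⟨β x, hx'⟩) = η (resP S π ⟨x, hx⟩)) : Row2 S := by
  classical
  let _ : Fintype Y := Fintype.ofFinite Y
  let _ : Fintype ↥(PJ cs h T X J) := Fintype.ofFinite _
  have hirr : IsIrrCharacter ↥((PJ cs h T X J).subgroupOf S) (η ∘ resP S π) := Core.isIrr_comp _ hsurj hη
  have hsurj' : Function.Surjective π := fun x => by
    obtain ⟨y, hy⟩ := hsurj x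
    exact ⟨_, hy⟩
  have hirrY : IsIrrCharacter ↥(PJ cs h T X J) (η ∘ π) := Core.isIrr_comp _ hsurj' hη
  have hch : IsCharacter Y (indFun (PJ cs h T X J) (η ∘ π)) := Brauer.isCharacter_indFun _ (Core.isIrr_isCharacter hirrY)
  have hres : ∀ [Fintype S], (fun s : S => indFun (PJ cs h T X J) (η ∘ π) s) =
      indFun ((PJ cs h T X J).subgroupOf S) (η ∘ resP S π) := by
    intro _
    funext s
    exact Cfsg.Agent.CharactersDeep.MaxInduced.indFun_restrict S (PJ cs h T X J) (sup_PJ R hG hUS J) _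
      (Core.isIrr_isClassFunction hirrY) s
  refine row2_of_ind ((PJ cs h T X J).subgroupOf S) (not_dvd_index_PJ R hG S hUS J) hirr ?_ ?_ ?_ ?_
  · intro h1
    apply hη1
    funext x
    obtain ⟨y, rfl⟩ := hsurj x
    exact congrFun h1 y
  · obtain ⟨d, -, hd⟩ := Core.isIrr_apply_one hη
    have h1 : charDegree (η ∘ resP S π) = d := Cfsg.Agent.Blocks.Basic.charDegree_of_eq (by
      rw [Function.comp_apply, map_one, hd])
    rw [h1, ← Cfsg.Agent.Blocks.Basic.charDegree_of_eq hd]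
    exact hηd
  · intro _ θ hθ hd hcon k hk s
    rw [← hres] at hcon
    refine rat_of_uniq R D hG hT hm hN hch huq ?_ S hUS hθ hd hcon k hk s
    intro k hk g
    refine indFun_pow hk (fun b => ?_) g
    rw [Function.comp_apply, Function.comp_apply, map_pow]
    refine hηr k (hk.coprime_dvd_right ?_) _
    exact (Subgroup.card_dvd_of_surjective π hsurj').trans (Subgroup.card_subgroup_dvd_card _)
  · intro _ α hα s
    obtain ⟨t, β, hβ, h1, h2⟩ := hinv α hα
    have h3 := H76.OC.indFun_aut (θ := η ∘ resP S π) h1 h2 s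
    rw [hβ, MulAut.mul_apply, MulAut.conj_apply, H76.OC.indFun_cj] at h3
    exact h3

/-- **the core** -/
theorem row2_core [Finite W] [Finite Y] [∀ i, Finite (F i)] (R : RGD cs h 2 T n X) (D : Adj T X F)
    (hG : GG cs h T X = ⊤) (hT : ∀ t : T, (∀ i, D.a i t = 1) → t = 1) (hm : MultOne cs h T X)
    (hN : ∀ f : ↥(UU cs h X) →* ℂˣ, ∀ u, (∀ i, co R D i u = 1) → f u = 1)
    {S : Subgroup Y} [S.Normal] (hUS : UU cs h X ≤ S) {J : Set I} {H : Type*} [Group H] [Finite H]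
    (π : ↥(PJ cs h T X J) →* H) (hsurj : Function.Surjective (resP S π)) {η : H → ℂ}
    (hη : IsIrrCharacter H η) (hη1 : η ≠ fun _ => 1) (hηd : ¬ 2 ∣ charDegree η)
    (hηr : ∀ k : ℕ, k.Coprime (Nat.card H) → ∀ x, η (x ^ k) = η x)
    (huq : ∀ [Fintype Y], OneOdd (indFun (PJ cs h T X J) (η ∘ π)))
    (hinv : ∀ α : MulAut S, (∃ k : ℕ, α ^ 2 ^ k = 1) → ∃ (s : S) (β : MulAut S),
      β = MulAut.conj s * α * (MulAut.conj s)⁻¹ ∧
      ((PJ cs h T X J).subgroupOf S).map β.toMonoidHom = (PJ cs h T X J).subgroupOf S ∧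
      ∀ (x : S) (hx : x ∈ (PJ cs h T X J).subgroupOf S) (hx' : β x ∈ (PJ cs h T X J).subgroupOf S),
        η (resP S π ⟨β x, hx'⟩) = η (resP S π ⟨x, hx⟩)) : Row2 S := by
  refine row2_core' R D hG hT hm hN hUS π hsurj hη hη1 hηd hηr huq fun α hα => ?_
  obtain ⟨s, β, hβ, h1, h2⟩ := hinv α hα
  refine ⟨s * α s⁻¹, β, ?_, h1, h2⟩
  rw [hβ]
  ext x
  simp only [MulAut.mul_apply, MulAut.conj_apply, MulAut.conj_inv_apply, map_mul, map_inv, mul_inv_rev, inv_inv,
    mul_assoc]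

end Cfsg.Agent.H655.R2
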