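import Cfsg.Agent.H619.Gow.LeviSplit
import Cfsg.Agent.H40.OC.Cor
import Cfsg.Agent.H655.R2.Core
import Cfsg.Agent.H684.OQ.Alf

/-!
# S4829, `Row2`, `q` even : the projection `P_i → SL₂(K)` and automorphisms (helper655)

`N : Nd cs h T n X i φ` a parametrised node, `π : P_i → SL₂(K)` the projection.

* `mem_B_iff` : `B` is the preimage of the upper triangular matrices;
* `eq_one_of_conj_upper` : the core of the upper triangular subgroup of `SL₂(K)` is trivial;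
* `orderOf_pi` : an automorphism of `S` fixing `P_i ∩ S` and `B ∩ S` preserves the order of `π x`.
-/

set_option autoImplicit false
set_option linter.unusedSectionVars false

namespace Cfsg.Agent.H655.R2

open Cfsg Cfsg.Agent.H148.GG Cfsg.Agent.H743.GG Cfsg.Agent.H40.OC Cfsg.Agent.H641.Gow Cfsg.Agent.H53.HC

open CoxeterSystem Cfsg.Agent.ChevalleyStructure.CoxeterGeom Cfsg.Agent.Tits.Roots Cfsg.Agent.Tits.Core
  Cfsg.Agent.Nodes.Reps Cfsg.Agent.Nodes.BNOf Cfsg.Agent.Nodes.Bruhat Cfsg.Agent.Nodes.LeviDec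
  Cfsg.Agent.Nodes.StabComb Cfsg.Agent.Nodes.OppDec
open Cfsg.Agent.ChevalleyStructure.SL2Hom (up lo mem_closure_SL2)
open Cfsg.Agent.Nodes.RGDFoldSL (wS hS coe_wS coe_hS lo_eq)

local notation "SL2 " F => Matrix.SpecialLinearGroup (Fin 2) F

section mat

variable {K : Type*} [Field K]

theorem wS_eq {t : K} (ht : t ≠ 0) : (wS t : SL2 K) = hS t * wS 1 := by
  apply Subtype.ext
  rw [Matrix.SpecialLinearGroup.coe_mul, coe_wS ht, coe_hS ht, coe_wS one_ne_zero, Matrix.mul_fin_two]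
  simp

theorem eq_one_of_sq [CharP K 2] {x : K} (hx : x * x = 1) : x = 1 := by
  have h2 : (2 : K) = 0 := CharTwo.two_eq_zero
  have h5 : (x - 1) * (x - 1) = 0 := by linear_combination hx - (x - 1) * h2
  exact sub_eq_zero.1 (mul_self_eq_zero.1 h5)

/-- **the core of the upper triangular subgroup** -/
theorem eq_one_of_conj_upper [CharP K 2] {g : SL2 K} (hg : ∀ s : SL2 K, (s * g * s⁻¹).1 1 0 = 0) : g = 1 := by
  have e : ∀ s : SL2 K, ((s⁻¹ : SL2 K) : Matrix (Fin 2) (Fin 2) K) = !![s.1 1 1, -s.1 0 1; -s.1 1 0, s.1 0 0] := by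
    intro s
    rw [Matrix.SpecialLinearGroup.coe_inv, Matrix.adjugate_fin_two]
  have key : ∀ s : SL2 K, (s.1 1 0 * g.1 0 0 + s.1 1 1 * g.1 1 0) * s.1 1 1 +
      (s.1 1 0 * g.1 0 1 + s.1 1 1 * g.1 1 1) * (-s.1 1 0) = 0 := by
    intro s
    have h1 := hg s
    have h2 : (s * g * s⁻¹ : SL2 K).1 = s.1 * g.1 * !![s.1 1 1, -s.1 0 1; -s.1 1 0, s.1 0 0] := by
      rw [Matrix.SpecialLinearGroup.coe_mul, Matrix.SpecialLinearGroup.coe_mul, e]
    rw [h2, Matrix.eta_fin_two s.1, Matrix.eta_fin_two g.1, Matrix.mul_fin_two, Matrix.mul_fin_two] at h1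
    exact h1
  have h0 := key 1
  have e1 : ((1 : SL2 K).1 1 0 : K) = 0 := rfl
  have e2 : ((1 : SL2 K).1 1 1 : K) = 1 := rfl
  rw [e1, e2, zero_mul, zero_mul, zero_add, zero_add, one_mul, mul_one, neg_zero, mul_zero, add_zero] at h0
  have h1 := key (wS 1)
  have e3 : ((wS 1 : SL2 K).1 1 0 : K) = -1 := by rw [coe_wS one_ne_zero]; simp
  have e4 : ((wS 1 : SL2 K).1 1 1 : K) = 0 := by rw [coe_wS one_ne_zero]; simp
  rw [e3, e4, mul_zero, zero_mul, add_zero, neg_neg, mul_one, zero_add, neg_mul, one_mul] at h1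
  have h2 := key (lo 1)
  have e5 : ((lo 1 : SL2 K).1 1 0 : K) = 1 := by rw [H619.Gow.coe_lo]; simp
  have e6 : ((lo 1 : SL2 K).1 1 1 : K) = 1 := by rw [H619.Gow.coe_lo]; simp
  have h1' : g.1 0 1 = 0 := neg_eq_zero.1 (by linear_combination h1)
  rw [e5, e6, h0, h1'] at h2
  have hd := g.2
  rw [Matrix.det_fin_two, h0, mul_zero, sub_zero] at hd
  have h3 : g.1 0 0 = g.1 1 1 := by
    linear_combination h2
  have h4 : g.1 0 0 = 1 := eq_one_of_sq (by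
    have h7 : g.1 0 0 * g.1 1 1 = 1 := hd
    calc g.1 0 0 * g.1 0 0 = g.1 0 0 * g.1 1 1 := congrArg (fun x => g.1 0 0 * x) h3
      _ = 1 := h7)
  apply Subtype.ext
  ext j k
  fin_cases j <;> fin_cases k
  · exact h4
  · exact h1'
  · exact h0
  · exact h3.symm.trans h4

end mat

universe u

variable {I W : Type*} {Y : Type u} [Fintype I] [DecidableEq I] [Group W] [Group Y] {M : CoxeterMatrix I}
  {cs : CoxeterSystem M W} {A : I → I → ℤ} {h : IsCartan M A} {T : Subgroup Y} {n : I → Y}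
  {X : (I → ℤ) → Subgroup Y}

section node

variable {i : I} {K : Type*} [Field K] [Finite K] [CharP K 2] {φ : (SL2 K) →* Y} (N : H619.Gow.Nd cs h T n X i φ)
  (R : RGD cs h 2 T n X) (hT : ∀ x ∈ T, ∀ y ∈ T, x * y = y * x) {π : ↥(PJ cs h T X {i}) →* (SL2 K)}
  (h1 : ∀ (s : SL2 K) (hs : φ s ∈ PJ cs h T X {i}), π ⟨φ s, hs⟩ = s)
  (h2 : ∀ (v : Y) (hv : v ∈ VJ cs h X {i}), π ⟨v, VJ_le_PJ hv⟩ = 1)

include N R hT h1 h2

/-- `g = φ(π g) z v` -/
theorem exists_form [Finite W] (g : ↥(PJ cs h T X {i})) : ∃ z ∈ T, (∀ s, z * φ s = φ s * z) ∧ ∃ v ∈ VJ cs h X {i},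
    (g : Y) = φ (π g) * z * v := by
  obtain ⟨l, hl, v, hv, e⟩ := (mem_PJ R).1 g.2
  obtain ⟨E, hE⟩ := H619.Gow.exists_equiv N R hT
  obtain ⟨⟨s, z⟩, hsz⟩ := E.surjective ⟨l, hl⟩
  have h3 : φ s * (z : Y) = l := by
    rw [← hE, hsz]
  obtain ⟨hzT, hzc⟩ := H619.Gow.mem_CT.1 z.2
  have hzP : (z : Y) ∈ PJ cs h T X {i} := LJ_le_PJ (T_le_LJ hzT)
  have h4 : π ⟨z, hzP⟩ = 1 := by
    have h5 : ∀ s : SL2 K, π ⟨z, hzP⟩ * s = s * π ⟨z, hzP⟩ := by
      intro s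
      have h6 := congrArg π (Subtype.ext (hzc s) : (⟨z, hzP⟩ : ↥(PJ cs h T X {i})) * ⟨φ s, H619.Gow.phi_mem_PJ N R s⟩ =
        ⟨φ s, H619.Gow.phi_mem_PJ N R s⟩ * ⟨z, hzP⟩)
      rw [map_mul, map_mul, h1] at h6
      exact h6
    exact H619.Gow.center_trivial (h5 _) (h5 _)
  have h5 : π g = s := by
    have h6 : g = ⟨φ s, H619.Gow.phi_mem_PJ N R s⟩ * ⟨z, hzP⟩ * ⟨v, VJ_le_PJ hv⟩ := Subtype.ext (by
      rw [e, ← h3]
      rfl)
    rw [h6, map_mul, map_mul, h1, h4, h2 v hv, mul_one, mul_one]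
  exact ⟨z, hzT, hzc, v, hv, by rw [h5, h3, e]⟩

/-- **`B` is the preimage of the upper triangular matrices** -/
theorem mem_B_iff [Finite W] [Finite Y] (g : ↥(PJ cs h T X {i})) : (g : Y) ∈ RGD.B cs h T X ↔ (π g).1 1 0 = 0 := by
  obtain ⟨z, hz, hzc, v, hv, e⟩ := exists_form N R hT h1 h2 g
  have hzB : z ∈ RGD.B cs h T X := RGD.T_le_B hz
  have hvB : v ∈ RGD.B cs h T X := VJ_le_B {i} hv
  have h3 : (g : Y) ∈ RGD.B cs h T X ↔ φ (π g) ∈ RGD.B cs h T X := by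
    rw [e, Subgroup.mul_mem_cancel_right _ hvB, Subgroup.mul_mem_cancel_right _ hzB]
  rw [h3]
  have hup : ∀ a : K, φ (up a) ∈ RGD.B cs h T X := fun a =>
    RGD.U_le_B (RGD.le_Sup (S := RGD.Pos cs h) ⟨isRoot_sr cs h i, sr_nonneg i⟩ ((N.mem_X _).2 ⟨a, rfl⟩))
  constructor
  · intro h4
    by_contra hz'
    obtain ⟨a, b, t, ht, he⟩ := H619.Gow.exists_wS hz'
    have h5 : φ (wS t) ∈ RGD.B cs h T X := by
      rw [← he, map_mul, map_mul]
      exact mul_mem (mul_mem (hup a) h4) (hup b)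
    rw [wS_eq ht, map_mul, N.w1] at h5
    exact H684.OQ.n_not_mem_B R i ((Subgroup.mul_mem_cancel_left _ (RGD.T_le_B (N.h1 t ht))).1 h5)
  · intro h4
    set s := π g with hs
    have hdet := s.2
    rw [Matrix.det_fin_two, h4, mul_zero, sub_zero] at hdet
    have ha : s.1 0 0 ≠ 0 := left_ne_zero_of_mul_eq_one hdet
    have h5 : s = up (s.1 0 1 * s.1 0 0) * hS (s.1 0 0) := by
      apply Subtype.ext
      rw [Matrix.SpecialLinearGroup.coe_mul, H619.Gow.coe_up, coe_hS ha, Matrix.mul_fin_two]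
      have h6 : s.1 1 1 = (s.1 0 0)⁻¹ := eq_inv_of_mul_eq_one_right hdet
      rw [Matrix.eta_fin_two s.1, h4, h6]
      simp [mul_assoc, mul_inv_cancel₀ ha]
    rw [h5, map_mul]
    exact mul_mem (hup _) (RGD.T_le_B (N.h1 _ ha))

/-- the kernel of `π` on `S` -/
theorem resP_eq_one_iff [Finite W] [Finite Y] {S : Subgroup Y} (hφS : ∀ s, φ s ∈ S)
    (x : ↥((PJ cs h T X {i}).subgroupOf S)) : resP S π x = 1 ↔
      ∀ y : ↥((PJ cs h T X {i}).subgroupOf S), (((y * x * y⁻¹ : ↥((PJ cs h T X {i}).subgroupOf S)) : S) : Y) ∈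
        RGD.B cs h T X := by
  have key : ∀ z : ↥((PJ cs h T X {i}).subgroupOf S), ((z : S) : Y) ∈ RGD.B cs h T X ↔ (resP S π z).1 1 0 = 0 :=
    fun z => mem_B_iff N R hT h1 h2 ⟨((z : S) : Y), Subgroup.mem_subgroupOf.1 z.2⟩
  constructor
  · intro hx y
    rw [key, map_mul, map_mul, hx, mul_one, map_inv, mul_inv_cancel]
    rfl
  · intro hx
    refine eq_one_of_conj_upper fun s => ?_
    have hs : φ s ∈ PJ cs h T X {i} := H619.Gow.phi_mem_PJ N R s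
    have h3 := hx ⟨⟨φ s, hφS s⟩, Subgroup.mem_subgroupOf.2 hs⟩
    rw [key, map_mul, map_mul, map_inv] at h3
    have h4 : resP S π ⟨⟨φ s, hφS s⟩, Subgroup.mem_subgroupOf.2 hs⟩ = s := h1 s hs
    rw [h4] at h3
    exact h3

/-- **an automorphism fixing `P_i ∩ S` and `B ∩ S` preserves the orders of the `π x`** -/
theorem orderOf_pi [Finite W] [Finite Y] {S : Subgroup Y} (hφS : ∀ s, φ s ∈ S) {β : MulAut S}
    (hP : ∀ x : S, (β x : Y) ∈ PJ cs h T X {i} ↔ (x : Y) ∈ PJ cs h T X {i})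
    (hB : ∀ x : S, (β x : Y) ∈ RGD.B cs h T X ↔ (x : Y) ∈ RGD.B cs h T X) (x : S)
    (hx : x ∈ (PJ cs h T X {i}).subgroupOf S) (hx' : β x ∈ (PJ cs h T X {i}).subgroupOf S) :
    orderOf (resP S π ⟨β x, hx'⟩) = orderOf (resP S π ⟨x, hx⟩) := by
  have key : ∀ (x : S) (hx : x ∈ (PJ cs h T X {i}).subgroupOf S) (hx' : β x ∈ (PJ cs h T X {i}).subgroupOf S),
      resP S π ⟨β x, hx'⟩ = 1 ↔ resP S π ⟨x, hx⟩ = 1 := by
    intro x hx hx'
    rw [resP_eq_one_iff N R hT h1 h2 hφS, resP_eq_one_iff N R hT h1 h2 hφS]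
    constructor
    · intro h3 y
      have hy : β (y : S) ∈ (PJ cs h T X {i}).subgroupOf S := Subgroup.mem_subgroupOf.2 ((hP _).2 (Subgroup.mem_subgroupOf.1 y.2))
      have h4 := h3 ⟨β y, hy⟩
      have h5 : (((⟨β y, hy⟩ * ⟨β x, hx'⟩ * (⟨β y, hy⟩)⁻¹ : ↥((PJ cs h T X {i}).subgroupOf S)) : S)) =
          β ((y : S) * x * (y : S)⁻¹) := by
        rw [map_mul, map_mul, map_inv]
        rfl
      rw [h5, hB] at h4
      exact h4
    · intro h3 y
      obtain ⟨z, hz⟩ := β.surjective (y : S)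
      have hzP : z ∈ (PJ cs h T X {i}).subgroupOf S := by
        refine Subgroup.mem_subgroupOf.2 ((hP _).1 ?_)
        rw [hz]
        exact Subgroup.mem_subgroupOf.1 y.2
      have h4 := h3 ⟨z, hzP⟩
      have h5 : (((y * ⟨β x, hx'⟩ * y⁻¹ : ↥((PJ cs h T X {i}).subgroupOf S)) : S)) = β (z * x * z⁻¹) := by
        rw [map_mul, map_mul, map_inv, hz]
        rfl
      rw [h5, hB]
      exact h4
  rw [orderOf_eq_orderOf_iff]
  intro m
  have h3 := key (x ^ m) (pow_mem hx m) (by rw [map_pow]; exact pow_mem hx' m)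
  have h4 : (⟨β (x ^ m), by rw [map_pow]; exact pow_mem hx' m⟩ : ↥((PJ cs h T X {i}).subgroupOf S)) = ⟨β x, hx'⟩ ^ m :=
    Subtype.ext (map_pow β x m)
  have h5 : (⟨x ^ m, pow_mem hx m⟩ : ↥((PJ cs h T X {i}).subgroupOf S)) = ⟨x, hx⟩ ^ m := rfl
  rw [h4, h5, map_pow, map_pow] at h3
  exact h3

end node

end Cfsg.Agent.H655.R2
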