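import Cfsg.Agent.H655.R2.Node
import Cfsg.Agent.S0147

/-!
# S4829, `Row2`, `q` even : the unique constituent of odd degree for a node (helper655)

`N : Nd cs h T n X i φ` a parametrised node, `π : P_i → SL₂(K)`, `η` an irreducible character of `SL₂(K)`.

* `oneOdd_cusp` : `η` cuspidal: `Ind_{P_i}^Y (η ∘ π)` has exactly one constituent of odd degree;
* `oneOdd_gen` : `η` induced from a linear character of the upper triangular subgroup trivial on the unitriangular one.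
-/

set_option autoImplicit false
set_option linter.unusedSectionVars false

namespace Cfsg.Agent.H655.R2

open scoped ComplexConjugate
open Cfsg Cfsg.Agent.H148.GG Cfsg.Agent.H743.GG Cfsg.Agent.H40.OC Cfsg.Agent.H641.Gow Cfsg.Agent.H53.HC
open Cfsg.Agent.Characters Cfsg.Agent.H151.OC

open CoxeterSystem Cfsg.Agent.ChevalleyStructure.CoxeterGeom Cfsg.Agent.Tits.Roots Cfsg.Agent.Tits.Core
  Cfsg.Agent.Nodes.Reps Cfsg.Agent.Nodes.BNOf Cfsg.Agent.Nodes.Bruhat Cfsg.Agent.Nodes.LeviDec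
  Cfsg.Agent.Nodes.StabComb Cfsg.Agent.Nodes.OppDec
open Cfsg.Agent.ChevalleyStructure.SL2Hom (up lo mem_closure_SL2)
open Cfsg.Agent.Nodes.RGDFoldSL (wS hS coe_wS coe_hS lo_eq)

local notation "SL2 " F => Matrix.SpecialLinearGroup (Fin 2) F

/-! ### induction and surjections -/

section surj

theorem sum_comp_surj {P H : Type*} [Group P] [Fintype P] [Group H] [Fintype H] (π : P →* H)
    (hπ : Function.Surjective π) (F : H → ℂ) : ∑ y : P, F (π y) = (Nat.card π.ker : ℂ) * ∑ x : H, F x := by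
  classical
  rw [← Finset.sum_fiberwise_of_maps_to (s := Finset.univ) (t := Finset.univ) (g := π) (fun _ _ => Finset.mem_univ _),
    Finset.mul_sum]
  refine Finset.sum_congr rfl fun x _ => ?_
  rw [Finset.sum_congr rfl fun y hy => by rw [(Finset.mem_filter.1 hy).2], Finset.sum_const, nsmul_eq_mul]
  congr 2
  obtain ⟨y₀, rfl⟩ := hπ x
  rw [← Fintype.card_subtype, ← Nat.card_eq_fintype_card]
  refine Nat.card_congr ?_
  refine Equiv.ofBijective (fun y => ⟨y₀⁻¹ * y.1, ?_⟩) ⟨?_, ?_⟩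
  · rw [MonoidHom.mem_ker, map_mul, map_inv, y.2, inv_mul_cancel]
  · intro a b hab
    exact Subtype.ext (mul_left_cancel (congrArg Subtype.val hab))
  · rintro ⟨k, hk⟩
    refine ⟨⟨y₀ * k, by rw [map_mul, MonoidHom.mem_ker.1 hk, mul_one]⟩, Subtype.ext ?_⟩
    simp

theorem indFun_comp_surj {P H : Type*} [Group P] [Fintype P] [Group H] [Fintype H] (π : P →* H)
    (hπ : Function.Surjective π) (C : Subgroup H) (f : C → ℂ) (g : P) :
    indFun C f (π g) = indFun (C.comap π) (fun b => f ⟨π b, b.2⟩) g := by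
  classical
  have hcard : Nat.card (C.comap π) = Nat.card π.ker * Nat.card C := by
    have h1 := (C.comap π).card_mul_index
    rw [Subgroup.index_comap_of_surjective C hπ] at h1
    have h2 := C.card_mul_index
    have h3 : Nat.card π.ker * Nat.card H = Nat.card P := by
      rw [← π.ker.card_mul_index, Subgroup.index_ker, MonoidHom.range_eq_top.2 hπ, Subgroup.card_top]
    have h4 : C.index ≠ 0 := Subgroup.index_ne_zero_of_finite
    rw [← h3, ← h2, ← mul_assoc] at h1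
    exact Nat.eq_of_mul_eq_mul_right (Nat.pos_of_ne_zero h4) h1
  have hext : ∀ y : P, extendByZero (C.comap π) (fun b => f ⟨π b, b.2⟩) y = extendByZero C f (π y) := by
    intro y
    by_cases hy : π y ∈ C
    · rw [H76.OC.ext_apply_mem C f hy, H76.OC.ext_apply_mem (C.comap π) _ (x := y) hy]
    · rw [H76.OC.ext_apply_not_mem C f hy, H76.OC.ext_apply_not_mem (C.comap π) _ (x := y) hy]
  unfold indFun
  rw [hcard]
  have h2 : ∑ x : P, extendByZero (C.comap π) (fun b => f ⟨π b, b.2⟩) (x⁻¹ * g * x) =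
      ∑ x : P, (fun z => extendByZero C f (z⁻¹ * π g * z)) (π x) := by
    refine Finset.sum_congr rfl fun x _ => ?_
    rw [hext, map_mul, map_mul, map_inv]
  rw [h2, sum_comp_surj π hπ (fun z => extendByZero C f (z⁻¹ * π g * z))]
  have h3 : (Nat.card π.ker : ℂ) ≠ 0 := Nat.cast_ne_zero.2 Nat.card_pos.ne'
  push_cast
  rw [mul_inv, mul_assoc, mul_left_comm, ← mul_assoc (Nat.card π.ker : ℂ)⁻¹, inv_mul_cancel₀ h3, one_mul]

end surj

/-! ### the restriction to the unitriangular subgroup -/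

section up

variable {K : Type*} [Field K] [Fintype K] [CharP K 2]

theorem apply_up_eq {η : (SL2 K) → ℂ} (hη : IsClassFunction (SL2 K) η) {a : K} (ha : a ≠ 0) : η (up a) = η (up 1) := by
  obtain ⟨c, hc⟩ := H619.Gow.exists_sq a
  have hc0 : c ≠ 0 := by
    rintro rfl
    rw [mul_zero] at hc
    exact ha hc
  have h1 := H619.Gow.hS_up hc0 (1 : K)
  rw [mul_one, ← hc] at h1
  rw [← hη (up 1) (hS c), h1, mul_inv_cancel_right]

theorem sum_up_ne {η : (SL2 K) → ℂ} (hη : IsIrrCharacter (SL2 K) η) (hc : ∑ a : K, η (up a) = 0) (e : K → ℂ)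
    (he0 : e 0 = 1) (hes : ∑ a : K, e a = 0) : ∑ a : K, η (up a) * conj (e a) ≠ 0 := by
  classical
  obtain ⟨d, hd0, hd⟩ := Core.isIrr_apply_one hη
  have hcl := Core.isIrr_isClassFunction hη
  have hup0 : (up 0 : SL2 K) = 1 := H619.Gow.up_zero
  have h1 : ∀ f : K → ℂ, ∑ a : K, η (up a) * f a = (d : ℂ) * f 0 + η (up 1) * ∑ a ∈ Finset.univ.erase (0 : K), f a := by
    intro f
    rw [← Finset.add_sum_erase _ _ (Finset.mem_univ (0 : K)), hup0, hd, Finset.mul_sum]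
    congr 1
    exact Finset.sum_congr rfl fun a ha => by rw [apply_up_eq hcl (Finset.ne_of_mem_erase ha)]
  have h2 := h1 (fun _ => 1)
  simp only [mul_one] at h2
  rw [hc, Finset.sum_const, Finset.card_erase_of_mem (Finset.mem_univ _), Finset.card_univ, nsmul_eq_mul, mul_one] at h2
  have h3 := h1 (fun a => conj (e a))
  have h4 : ∑ a ∈ Finset.univ.erase (0 : K), conj (e a) = -1 := by
    have h5 := Finset.add_sum_erase Finset.univ (fun a => conj (e a)) (Finset.mem_univ (0 : K))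
    simp only [he0, map_one] at h5
    have h6 : ∑ a : K, conj (e a) = 0 := by rw [← map_sum, hes, map_zero]
    rw [h6] at h5
    linear_combination h5
  rw [h3, h4, he0, map_one, mul_one]
  intro h7
  have h8 : η (up 1) = d := by linear_combination -h7
  rw [h8] at h2
  have h9 : (d : ℂ) * (Fintype.card K : ℂ) = 0 := by
    have h10 : ((Fintype.card K - 1 : ℕ) : ℂ) = (Fintype.card K : ℂ) - 1 := by
      rw [Nat.cast_sub Fintype.card_pos, Nat.cast_one]
    rw [h10] at h2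
    linear_combination -h2
  rcases mul_eq_zero.1 h9 with h10 | h10
  · have : d = 0 := by exact_mod_cast h10
    omega
  · have : Fintype.card K = 0 := by exact_mod_cast h10
    have := Fintype.card_pos (α := K)
    omega

end up

theorem pow_upper {K : Type*} [Field K] {s : SL2 K} (hs : s.1 1 0 = 0) (m : ℕ) :
    (s ^ m).1 1 0 = 0 ∧ (s ^ m).1 0 0 = s.1 0 0 ^ m := by
  induction m with
  | zero => exact ⟨rfl, by rw [pow_zero, pow_zero]; rfl⟩
  | succ m ih =>
    obtain ⟨h1, h2⟩ := ih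
    have e : (s ^ (m + 1)).1 = (s ^ m).1 * s.1 := by rw [pow_succ, Matrix.SpecialLinearGroup.coe_mul]
    constructor
    · rw [e, Matrix.mul_apply, Fin.sum_univ_two, h1, hs, zero_mul, mul_zero, add_zero]
    · rw [e, Matrix.mul_apply, Fin.sum_univ_two, h2, hs, mul_zero, add_zero, pow_succ]

theorem eq_one_of_pow {K : Type*} [Field K] [CharP K 2] {x : K} (k : ℕ) (hx : x ^ 2 ^ k = 1) : x = 1 := by
  induction k with
  | zero => simpa using hx
  | succ k ih =>
    apply ih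
    apply eq_one_of_sq
    rw [← pow_two, ← pow_mul, ← pow_succ]
    exact hx

theorem exists_up {K : Type*} [Field K] [CharP K 2] {s : SL2 K} (hs : s.1 1 0 = 0) {k : ℕ} (hk : s ^ 2 ^ k = 1) :
    ∃ b, s = up b := by
  have h1 : s.1 0 0 = 1 := by
    apply eq_one_of_pow k
    rw [← (pow_upper hs (2 ^ k)).2, hk]
    rfl
  have hd := s.2
  rw [Matrix.det_fin_two, hs, mul_zero, sub_zero, h1, one_mul] at hd
  refine ⟨s.1 0 1, Subtype.ext ?_⟩
  rw [H619.Gow.coe_up]
  ext j k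
  fin_cases j <;> fin_cases k
  · exact h1
  · rfl
  · exact hs
  · exact hd

/-! ### the node -/

universe u

variable {I W : Type*} {Y : Type u} [Fintype I] [DecidableEq I] [Group W] [Group Y] {M : CoxeterMatrix I}
  {cs : CoxeterSystem M W} {A : I → I → ℤ} {h : IsCartan M A} {T : Subgroup Y} {n : I → Y}
  {X : (I → ℤ) → Subgroup Y} {F : I → Type*} [∀ i, Field (F i)]

theorem posJ_single {i : I} {x : I → ℤ} (hx : x ∈ PosJ cs h {i}) : x = sr i := by
  rcases H619.Gow.rootsJ_single (cs := cs) (h := h) (x := x) ⟨hx.1, hx.2.2⟩ with h1 | h1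
  · exact h1
  · exfalso
    have h2 := hx.2.1 i
    rw [h1, Pi.neg_apply, sr_self] at h2
    norm_num at h2

theorem sr_mem_posJ (i : I) : sr i ∈ PosJ cs h ({i} : Set I) :=
  ⟨isRoot_sr cs h i, sr_nonneg i, (H619.Gow.sr_mem_rootsJ (cs := cs) (h := h) i).2⟩

theorem UJ_single (i : I) : UJ cs h X ({i} : Set I) = X (sr i) :=
  le_antisymm (RGD.Sup_le fun x hx => by rw [posJ_single hx]) (RGD.le_Sup (sr_mem_posJ i))

theorem rad_single (i : I) : rad cs h X ({i} : Set I) i = X (sr i) := by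
  apply le_antisymm
  · exact (rad_le_UJ {i} i).trans (UJ_single i).le
  · refine RGD.le_Sup ⟨sr_mem_posJ i, ?_⟩
    rw [sr_self]
    exact zero_lt_one

variable (R : RGD cs h 2 T n X) (D : Adj T X F)

section node

variable {i : I} {K : Type*} [Field K] [Fintype K] [CharP K 2] {φ : (SL2 K) →* Y} (N : H619.Gow.Nd cs h T n X i φ)
  (hTc : ∀ x ∈ T, ∀ y ∈ T, x * y = y * x) {π : ↥(PJ cs h T X {i}) →* (SL2 K)}
  (h1 : ∀ (s : SL2 K) (hs : φ s ∈ PJ cs h T X {i}), π ⟨φ s, hs⟩ = s)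
  (h2 : ∀ (v : Y) (hv : v ∈ VJ cs h X {i}), π ⟨v, VJ_le_PJ hv⟩ = 1)

include N h1

/-- sums over the root group -/
theorem sum_root (U : Subgroup Y) [Fintype U] (hU : U = X (sr i)) (f : U → ℂ) (g : K → ℂ)
    (hfg : ∀ (a : K) (ha : φ (up a) ∈ U), f ⟨φ (up a), ha⟩ = g a) : ∑ u : U, f u = ∑ a : K, g a := by
  subst hU
  have hmem : ∀ a : K, φ (up a) ∈ X (sr i) := fun a => (N.mem_X _).2 ⟨a, rfl⟩
  symm
  refine Fintype.sum_bijective (fun a : K => (⟨φ (up a), hmem a⟩ : X (sr i))) ⟨?_, ?_⟩ _ _ fun a => (hfg a _).symm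
  · intro a b hab
    exact N.inj_up a b (congrArg Subtype.val hab)
  · rintro ⟨u, hu⟩
    obtain ⟨a, rfl⟩ := (N.mem_X u).1 hu
    exact ⟨a, rfl⟩

include R D h2

/-- **`η` cuspidal** -/
theorem oneOdd_cusp [Finite W] [Fintype Y] [∀ i, Finite (F i)] (hG : GG cs h T X = ⊤)
    (hT : ∀ t : T, (∀ i, D.a i t = 1) → t = 1) (hm : MultOne cs h T X)
    (hN : ∀ f : ↥(UU cs h X) →* ℂˣ, ∀ u, (∀ i, co R D i u = 1) → f u = 1) {η : (SL2 K) → ℂ}
    (hη : IsIrrCharacter (SL2 K) η) (hc : ∑ a : K, η (up a) = 0) : OneOdd (indFun (PJ cs h T X {i}) (η ∘ π)) := by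
  classical
  have : Fact (Nat.Prime 2) := ⟨Nat.prime_two⟩
  let fL : ↥(LJ cs h T X {i}) →* (SL2 K) := π.comp (Subgroup.inclusion LJ_le_PJ)
  have hfL : Function.Surjective fL := fun s => ⟨⟨φ s, H619.Gow.phi_mem_LJ N R s⟩, h1 s _⟩
  have hπL : ∀ g : ↥(PJ cs h T X {i}), π g = fL (projL R {i} g) := by
    intro g
    obtain ⟨l, hl, v, hv, e⟩ := (mem_PJ R).1 g.2
    have e2 : g = ⟨l, LJ_le_PJ hl⟩ * ⟨v, VJ_le_PJ hv⟩ := Subtype.ext e
    have e3 : projL R {i} g = ⟨l, hl⟩ := by rw [e2, map_mul, projL_L R hl, projL_V R hv, mul_one]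
    rw [e3, e2, map_mul, h2 v hv, mul_one]
    rfl
  have hHC : indFun (PJ cs h T X {i}) (η ∘ π) = HC R {i} (η ∘ fL) := by
    unfold HC
    congr 1
    funext g
    show η (π g) = η (fL (projL R {i} g))
    rw [hπL]
  obtain ⟨ψ, hψ⟩ := exists_nd R D
  have hup : ∀ (a : K) (ha : φ (up a) ∈ LJ cs h T X {i}), fL ⟨φ (up a), ha⟩ = up a := fun a _ => h1 _ _
  have : Fintype ↥(UJ cs h X ({i} : Set I)) := Fintype.ofFinite _
  have key := uniq_deg R D hG hT hm hN hψ {i} (Core.isIrr_comp fL hfL hη) (fun j hj _ => ?_) ?_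
  · rw [hHC]
    exact key
  · rw [Set.mem_singleton_iff] at hj
    subst hj
    rw [sum_root N h1 (rad cs h X {j} j) (rad_single j) _ (fun a => η (up a)) fun a ha => ?_, hc]
    show η (fL ⟨φ (up a), _⟩) = _
    rw [hup]
  · -- nonvanishing
    have hmemU : ∀ a : K, φ (up a) ∈ UJ cs h X Set.univ := fun a =>
      H148.GG.UJ_le_U (by rw [UJ_single]; exact (N.mem_X _).2 ⟨a, rfl⟩ : φ (up a) ∈ UJ cs h X ({i} : Set I))
    have h3 := sum_up_ne hη hc (fun a => (ψ ⟨φ (up a), hmemU a⟩ : ℂ)) ?_ ?_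
    · rw [Core.classInner_def]
      refine mul_ne_zero (inv_ne_zero (Nat.cast_ne_zero.2 Nat.card_pos.ne')) ?_
      rw [sum_root N h1 (UJ cs h X {i}) (UJ_single i) _
        (fun a => η (up a) * conj ((ψ ⟨φ (up a), hmemU a⟩ : ℂˣ) : ℂ)) fun a ha => ?_]
      · exact h3
      · rw [Function.comp_apply, Function.comp_apply]
        congr 2
        exact hup a _
    · have e1 : (⟨φ (up 0), hmemU 0⟩ : ↥(UJ cs h X Set.univ)) = 1 := Subtype.ext (by
        show φ (up 0) = 1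
        rw [H619.Gow.up_zero, map_one])
      simp only [e1, map_one, Units.val_one]
    · -- a nontrivial additive character
      obtain ⟨u, hu, hux, hne⟩ := hψ.ne i (Set.mem_univ i)
      obtain ⟨b, rfl⟩ := (N.mem_X u).1 hux
      have h4 : ∀ a : K, ψ ⟨φ (up (b + a)), hmemU (b + a)⟩ = ψ ⟨φ (up b), hmemU b⟩ * ψ ⟨φ (up a), hmemU a⟩ := by
        intro a
        rw [← map_mul]
        congr 1
        exact Subtype.ext (by
          show φ (up (b + a)) = φ (up b) * φ (up a)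
          rw [← H619.Gow.up_mul, map_mul])
      have h5 : ∑ a : K, ((ψ ⟨φ (up a), hmemU a⟩ : ℂˣ) : ℂ) =
          (ψ ⟨φ (up b), hmemU b⟩ : ℂ) * ∑ a : K, ((ψ ⟨φ (up a), hmemU a⟩ : ℂˣ) : ℂ) := by
        rw [Finset.mul_sum]
        refine (Fintype.sum_equiv (Equiv.addLeft b) _ _ fun a => ?_).symm
        have h6 := congrArg (fun z : ℂˣ => (z : ℂ)) (h4 a)
        exact h6.symm
      have h6 : (ψ ⟨φ (up b), hmemU b⟩ : ℂ) ≠ 1 := fun h7 => hne (Units.ext h7)
      have h7 : (1 - (ψ ⟨φ (up b), hmemU b⟩ : ℂ)) * ∑ a : K, ((ψ ⟨φ (up a), hmemU a⟩ : ℂˣ) : ℂ) = 0 := by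
        rw [sub_mul, one_mul, ← h5, sub_self]
      exact (mul_eq_zero.1 h7).resolve_left (sub_ne_zero.2 h6.symm)

include hTc

/-- **`η` induced from the upper triangular subgroup** -/
theorem oneOdd_gen [Finite W] [Fintype Y] [∀ i, Finite (F i)] (hG : GG cs h T X = ⊤)
    (hT : ∀ t : T, (∀ i, D.a i t = 1) → t = 1) (hm : MultOne cs h T X)
    (hN : ∀ f : ↥(UU cs h X) →* ℂˣ, ∀ u, (∀ i, co R D i u = 1) → f u = 1) [Fintype (SL2 K)] {η : (SL2 K) → ℂ}
    (Bo : Subgroup (SL2 K)) (lam : Bo →* ℂˣ) (hBo : ∀ g : SL2 K, g ∈ Bo ↔ g.1 1 0 = 0)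
    (hlam : ∀ (a : K) (ha : up a ∈ Bo), lam ⟨_, ha⟩ = 1) (hη : η = indFun Bo (fun b => (lam b : ℂ))) :
    OneOdd (indFun (PJ cs h T X {i}) (η ∘ π)) := by
  classical
  have : Fact (Nat.Prime 2) := ⟨Nat.prime_two⟩
  let _ : Fintype ↥(PJ cs h T X {i}) := Fintype.ofFinite _
  have hmem := mem_B_iff N R hTc h1 h2
  have hπB : ∀ b : ↥(RGD.B cs h T X), π ⟨b, B_le_PJ b.2⟩ ∈ Bo := fun b => (hBo _).2 ((hmem _).1 b.2)
  let lam' : ↥(RGD.B cs h T X) →* ℂˣ := lam.comp
    ((π.comp (Subgroup.inclusion B_le_PJ)).codRestrict Bo fun b => hπB b)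
  have hπs : Function.Surjective π := fun s => ⟨⟨φ s, H619.Gow.phi_mem_PJ N R s⟩, h1 s _⟩
  have hcomap : Bo.comap π = (RGD.B cs h T X).subgroupOf (PJ cs h T X {i}) := by
    ext g
    rw [Subgroup.mem_comap, hBo, Subgroup.mem_subgroupOf, hmem]
  have hind : indFun (PJ cs h T X {i}) (η ∘ π) = indFun (RGD.B cs h T X) (fun b => ((lam' b : ℂˣ) : ℂ)) := by
    rw [← Cfsg.Agent.S0147.result (RGD.B cs h T X) (PJ cs h T X {i}) B_le_PJ (fun b => ((lam' b : ℂˣ) : ℂ))]
    congr 1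
    funext g
    rw [Function.comp_apply, hη, indFun_comp_surj π hπs]
    have key : ∀ (C : Subgroup ↥(PJ cs h T X {i})) (hC : C = (RGD.B cs h T X).subgroupOf (PJ cs h T X {i}))
        (f : C → ℂ) (f' : ↥((RGD.B cs h T X).subgroupOf (PJ cs h T X {i})) → ℂ)
        (hf : ∀ (x : ↥(PJ cs h T X {i})) (hx : x ∈ C) (hx' : x ∈ (RGD.B cs h T X).subgroupOf (PJ cs h T X {i})),
          f ⟨x, hx⟩ = f' ⟨x, hx'⟩), indFun C f g = indFun ((RGD.B cs h T X).subgroupOf (PJ cs h T X {i})) f' g := by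
      intro C hC f f' hf
      subst hC
      congr 1
      funext x
      exact hf x x.2 x.2
    exact key _ hcomap _ _ fun x hx hx' => rfl
  rw [hind]
  refine uniq_B R D hG hT hm hN lam' ?_
  intro u hu
  -- `u ∈ U`: `π u` is unitriangular
  have huB : u ∈ RGD.B cs h T X := RGD.U_le_B hu
  obtain ⟨s, hs⟩ : ∃ s, s = π ⟨u, B_le_PJ huB⟩ := ⟨_, rfl⟩
  have hs0 : s.1 1 0 = 0 := by rw [hs]; exact (hmem _).1 huB
  obtain ⟨k, hk⟩ := R.isPGroup_Upos ⟨u, hu⟩
  have hk' : u ^ 2 ^ k = 1 := congrArg Subtype.val hk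
  have hsk : s ^ 2 ^ k = 1 := by
    rw [hs, ← map_pow]
    have e3 : (⟨u, B_le_PJ huB⟩ : ↥(PJ cs h T X {i})) ^ 2 ^ k = 1 := Subtype.ext hk'
    rw [e3, map_one]
  have hup1 : ∃ b, s = up b := exists_up hs0 hsk
  obtain ⟨b, hb⟩ := hup1
  have hbB : up b ∈ Bo := (hBo _).2 (by rw [H619.Gow.coe_up]; rfl)
  have e4 : ((π.comp (Subgroup.inclusion B_le_PJ)).codRestrict Bo fun b => hπB b) ⟨u, RGD.U_le_B hu⟩ = ⟨up b, hbB⟩ :=
    Subtype.ext (hs.symm.trans hb)
  show lam _ = 1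
  rw [← hlam b hbB, ← e4]

end node

end Cfsg.Agent.H655.R2
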